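import Groth.Agent.OmegaAffLib.Ideal
import Groth.Agent.ProjBundleLib.FTSub
import Groth.Agent.ProjTwistLib.Lift
import Groth.Agent.AmpleEmb.Compose
import Groth.Prelude.Def_BlowUp2

/-! Ampleness from the twists of ideals of finite type. -/

set_option autoImplicit false
set_option linter.style.haveILetI false
set_option backward.isDefEq.respectTransparency false

universe u

open CategoryTheory CategoryTheory.Limits AlgebraicGeometry TopologicalSpace Opposite
open Groth.Agent.ParaFLib Groth.Agent.PullbackMod Groth.Agent.DCohLib Groth.Agent.AmpleLib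

noncomputable section

namespace Groth.Agent.AmpleCritLib

variable {X : Scheme.{u}}

/-- The image of a module in the structure sheaf, as an ideal sheaf. -/
theorem exists_idealData {G : X.Modules} [Coh.IsQCoh G] (i : G ⟶ Coh.structureModule X) :
    ∃ I : X.IdealSheafData, ∀ (U : X.affineOpens) (a : Γ(X, U.1)),
      a ∈ I.ideal U ↔ ∃ g : Γ(G, U.1), (show Γ(X, U.1) from i.app U.1 g) = a := by
  let J : ∀ U : X.affineOpens, Ideal Γ(X, U.1) := fun U =>
    { carrier := Set.range fun g : Γ(G, U.1) => (show Γ(X, U.1) from i.app U.1 g)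
      add_mem' := fun {a b} ha hb => by
        obtain ⟨g, rfl⟩ := ha
        obtain ⟨g', rfl⟩ := hb
        exact ⟨g + g', map_add (i.app U.1).hom g g'⟩
      zero_mem' := ⟨0, map_zero (i.app U.1).hom⟩
      smul_mem' := fun r a ha => by
        obtain ⟨g, rfl⟩ := ha
        exact ⟨r • g, Scheme.Modules.Hom.app_smul i r g⟩ }
  refine ⟨{ ideal := J, map_ideal_basicOpen := fun U f => ?_ }, fun U a => Iff.rfl⟩
  have hnat : ∀ g : Γ(G, U.1), (show Γ(X, X.basicOpen f) from i.app (X.basicOpen f)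
      (G.presheaf.map (homOfLE (X.basicOpen_le f)).op g)) =
      X.presheaf.map (homOfLE (X.basicOpen_le f)).op (show Γ(X, U.1) from i.app U.1 g) := fun g =>
    ConcreteCategory.congr_hom (i.mapPresheaf.naturality (homOfLE (X.basicOpen_le f)).op) g
  refine le_antisymm (Ideal.map_le_iff_le_comap.2 ?_) ?_
  · rintro _ ⟨g, rfl⟩
    exact ⟨_, hnat g⟩
  · rintro _ ⟨g, rfl⟩
    obtain ⟨n, l, hl⟩ := (QCohLib.locAt G U.2).extend f g
    rw [CohBase.sc_apply] at hl
    have h1 := hnat l
    rw [hl] at h1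
    erw [Scheme.Modules.Hom.app_smul] at h1
    have hu : IsUnit (X.presheaf.map (homOfLE (X.basicOpen_le f)).op (f ^ n)) := by
      rw [map_pow]; exact (RingedSpace.isUnit_res_basicOpen _ f).pow n
    refine (Ideal.unit_mul_mem_iff_mem _ hu).1 ?_
    exact (congrArg (· ∈ Ideal.map (X.presheaf.map (homOfLE (X.basicOpen_le f)).op).hom (J U)) h1).mpr
      (Ideal.mem_map_of_mem _ ⟨l, rfl⟩)

/-- An ideal of finite type which is trivial at a point and vanishes off a neighbourhood. -/
theorem exists_ftIdeal [CompactSpace X] [QuasiSeparatedSpace X] {U : X.Opens} {x : X} (hx : x ∈ U) :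
    ∃ I : X.IdealSheafData, BlowUp.IsFiniteTypeIdeal I ∧
      (∀ (V : X.affineOpens) (a : Γ(X, V.1)), a ∈ I.ideal V → X.basicOpen a ≤ U) ∧
      ∃ V : X.affineOpens, x ∈ V.1 ∧ (1 : Γ(X, V.1)) ∈ I.ideal V := by
  let Z : Closeds X := ⟨(U : Set X)ᶜ, U.2.isClosed_compl⟩
  let K := Scheme.IdealSheafData.vanishingIdeal Z
  obtain ⟨_, ⟨W, hW, rfl⟩, hxW, hWU⟩ := X.isBasis_affineOpens.exists_subset_of_mem_open hx U.2
  have h1 : (1 : Γ(X, W)) ∈ K.ideal ⟨W, hW⟩ := by
    rw [Scheme.IdealSheafData.vanishingIdeal_ideal, PrimeSpectrum.mem_vanishingIdeal]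
    intro p hp
    refine absurd (hWU ?_) hp
    exact hW.range_fromSpec.le ⟨p, rfl⟩
  obtain ⟨m, hm⟩ := (OmegaAffLib.mem_range_idealSect K ⟨W, hW⟩ 1).1 h1
  haveI := OmegaAffLib.isQCoh_idealMod K
  obtain ⟨G, j, hG, hGft, -, hpre⟩ := ProjBundleLib.exists_ft_through (M := ClSub.idealMod K) (ι := PUnit.{u + 1})
    (fun _ => W) (fun _ => hW) (fun _ => m)
  haveI := hG
  obtain ⟨I, hI⟩ := exists_idealData (j ≫ ClSub.idealModι K)
  have hIK : ∀ (V : X.affineOpens) (a : Γ(X, V.1)), a ∈ I.ideal V → a ∈ K.ideal V := fun V a ha => by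
    obtain ⟨g, rfl⟩ := (hI V a).1 ha
    exact (OmegaAffLib.mem_range_idealSect K V _).2 ⟨j.app V.1 g, rfl⟩
  refine ⟨I, fun V => ?_, fun V a ha z hz => ?_, ⟨W, hW⟩, hxW, ?_⟩
  · obtain ⟨S, hS⟩ := (QCohLib.finite_sections G hGft V.2).fg_top
    classical
    refine ⟨S.image fun g => (show Γ(X, V.1) from (j ≫ ClSub.idealModι K).app V.1 g), le_antisymm ?_ fun a ha => ?_⟩
    · rw [Submodule.span_le]
      intro a ha
      obtain ⟨g, -, rfl⟩ := Finset.mem_image.1 ha
      exact (hI V _).2 ⟨g, rfl⟩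
    · obtain ⟨g, rfl⟩ := (hI V a).1 ha
      have hg : g ∈ Submodule.span Γ(X, V.1) (S : Set Γ(G, V.1)) := hS.ge Submodule.mem_top
      clear ha
      induction hg using Submodule.span_induction with
      | mem b hb => exact Submodule.subset_span (Finset.mem_image.2 ⟨b, hb, rfl⟩)
      | zero => rw [show (show Γ(X, V.1) from (j ≫ ClSub.idealModι K).app V.1 0) = 0 from map_zero _]; exact zero_mem _
      | add b c _ _ hb hc =>
        rw [show (show Γ(X, V.1) from (j ≫ ClSub.idealModι K).app V.1 (b + c)) =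
          (show Γ(X, V.1) from (j ≫ ClSub.idealModι K).app V.1 b) + (show Γ(X, V.1) from (j ≫ ClSub.idealModι K).app V.1 c)
          from map_add _ _ _]
        exact add_mem hb hc
      | smul r b _ hb =>
        rw [show (show Γ(X, V.1) from (j ≫ ClSub.idealModι K).app V.1 (r • b)) =
          r * (show Γ(X, V.1) from (j ≫ ClSub.idealModι K).app V.1 b)
          from Scheme.Modules.Hom.app_smul _ r b]
        exact Ideal.mul_mem_left _ _ hb
  · by_contra hzU
    have hzV : z ∈ V.1 := X.basicOpen_le a hz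
    have hK := hIK V a ha
    rw [Scheme.IdealSheafData.vanishingIdeal_ideal, PrimeSpectrum.mem_vanishingIdeal] at hK
    let p := V.2.primeIdealOf ⟨z, hzV⟩
    have hp : V.2.fromSpec p = z := V.2.fromSpec_primeIdealOf ⟨z, hzV⟩
    have hmem : p ∈ V.2.fromSpec ⁻¹ᵁ X.basicOpen a := by show V.2.fromSpec p ∈ X.basicOpen a; rw [hp]; exact hz
    rw [V.2.fromSpec_preimage_basicOpen] at hmem
    exact hmem (hK p (by show V.2.fromSpec p ∈ (U : Set X)ᶜ; rw [hp]; exact hzU))
  · obtain ⟨g, hg⟩ := hpre ⟨⟩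
    refine (hI ⟨W, hW⟩ 1).2 ⟨g, ?_⟩
    show OmegaSh.idealSect K W (j.app W g) = 1
    rw [hg, hm]

/-- Ampleness on an open from sections of twisted ideals of finite type. -/
theorem ampleOn_of_ideals [CompactSpace X] [QuasiSeparatedSpace X] {L : X.Modules} (hL : PicF.IsInvertible L)
    {O : X.Opens} (hO : IsCompact (O : Set X))
    (h : ∀ I : X.IdealSheafData, BlowUp.IsFiniteTypeIdeal I → ∃ n : ℕ, 0 < n ∧ ∀ (x : X) (hx : x ∈ O),
      Submodule.span (X.presheaf.stalk x) (Set.range fun σ : Γ(tmod (ClSub.idealMod I) (CohB1.tensorPow L n), O) =>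
        (tmod (ClSub.idealMod I) (CohB1.tensorPow L n)).presheaf.germ O x hx σ) = ⊤) : AmpleOn L O := by
  haveI : CompactSpace (O : Scheme.{u}) := isCompact_iff_compactSpace.1 hO
  refine isAmple_of_isBasis (isInvertible_restrict O.ι hL) (Opens.isBasis_iff_nbhd.2 fun {N x} hx => ?_)
  let U := O.ι ''ᵁ N
  have hxO : O.ι x ∈ O := x.2
  have hxU : O.ι x ∈ U := ⟨x, hx, rfl⟩
  obtain ⟨I, hI, hIU, V, hxV, h1⟩ := exists_ftIdeal (x := O.ι x) hxU
  obtain ⟨n, hn, hspan⟩ := h I hI
  obtain ⟨m, rfl⟩ := Nat.exists_eq_add_of_le' hn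
  let P := CohB1.tensorPow L (m + 1)
  have hP : PicF.IsInvertible P := isInvertible_tensorPow hL (m + 1)
  let J := ClSub.idealMod I
  let pr : ProjTwistLib.Pairing J P P :=
    { f := fun W => AddMonoidHom.mk' (fun a => AddMonoidHom.mk' (fun q => OmegaSh.idealSect I W a • q)
          fun q q' => smul_add _ q q') fun a b => AddMonoidHom.ext fun q => by
        show OmegaSh.idealSect I W (a + b) • q = OmegaSh.idealSect I W a • q + OmegaSh.idealSect I W b • q
        rw [show OmegaSh.idealSect I W (a + b) = OmegaSh.idealSect I W a + OmegaSh.idealSect I W b from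
          map_add ((ClSub.idealModι I).app W).hom a b, add_smul]
      smul_left := fun W r a q => by
        show OmegaSh.idealSect I W (r • a) • q = r • (OmegaSh.idealSect I W a • q)
        rw [OmegaAffLib.idealSect_smul, mul_smul]
      smul_right := fun W r a q => by
        show OmegaSh.idealSect I W a • (r • q) = r • (OmegaSh.idealSect I W a • q)
        rw [smul_comm]
      fres := fun {W W'} hW a q => by
        show OmegaSh.idealSect I W' (J.presheaf.map (homOfLE hW).op a) • P.presheaf.map (homOfLE hW).op q =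
          P.presheaf.map (homOfLE hW).op (OmegaSh.idealSect I W a • q)
        rw [P.map_smul]
        exact congrArg (· • _) (ConcreteCategory.congr_hom ((ClSub.idealModι I).mapPresheaf.naturality (homOfLE hW).op) a) }
  let π := pr.lift
  have hπ : ∀ (z : X) (W : X.Opens) (hz : z ∈ W) (a : Γ(J, W)) (q : Γ(P, W)),
      stalkLin π z ((tmod J P).presheaf.germ W z hz (pairS J P a q)) =
        X.presheaf.germ W z hz (OmegaSh.idealSect I W a) • P.presheaf.germ W z hz q := fun z W hz a q => by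
    rw [stalkLin_germ]
    erw [ProjTwistLib.Pairing.lift_pairS]
    exact germ_smul' z hz _ _
  have himg : ∀ z ∉ U, ∀ w, stalkLin π z w ∈
      (IsLocalRing.maximalIdeal (X.presheaf.stalk z)) • (⊤ : Submodule (X.presheaf.stalk z) (P.presheaf.stalk z)) := by
    intro z hz w
    obtain ⟨w, rfl⟩ := (stalkTensor z J P).surjective w
    induction w using TensorProduct.induction_on with
    | zero => simp
    | tmul a q =>
      obtain ⟨W, hzW, a, q, rfl, rfl⟩ := exists_common_germ z a q
      rw [show stalkTensor z J P (J.presheaf.germ W z hzW a ⊗ₜ P.presheaf.germ W z hzW q) =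
        (tmod J P).presheaf.germ W z hzW (pairS J P a q) from (germ_pairS a q z hzW).symm, hπ]
      refine Submodule.smul_mem_smul (fun hu => hz ?_) Submodule.mem_top
      obtain ⟨_, ⟨W', hW', rfl⟩, hzW', hle⟩ := X.isBasis_affineOpens.exists_subset_of_mem_open hzW W.2
      refine hIU ⟨W', hW'⟩ (X.presheaf.map (homOfLE (show W' ≤ W from hle)).op (OmegaSh.idealSect I W a)) ?_
        ((Scheme.mem_basicOpen _ _ z hzW').2 ?_)
      · refine (OmegaAffLib.mem_range_idealSect I ⟨W', hW'⟩ _).2 ⟨J.presheaf.map (homOfLE (show W' ≤ W from hle)).op a, ?_⟩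
        exact ConcreteCategory.congr_hom ((ClSub.idealModι I).mapPresheaf.naturality (homOfLE (show W' ≤ W from hle)).op) a
      · rw [TopCat.Presheaf.germ_res_apply]; exact hu
    | add a b ha hb => rw [map_add, map_add]; exact add_mem ha hb
  obtain ⟨q₀, hq₀⟩ : ∃ q, Function.Bijective fun c : X.presheaf.stalk (O.ι x) => c • q :=
    ⟨_, (exists_stalk_gen hP (O.ι x)).choose_spec⟩
  obtain ⟨σ, hσ⟩ : ∃ σ : Γ(tmod J P, O), Function.Bijective fun c : X.presheaf.stalk (O.ι x) =>
      c • P.presheaf.germ O (O.ι x) hxO (π.app O σ) := by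
    by_contra hne
    push Not at hne
    let M₀ := Submodule.map (LinearMap.toSpanSingleton (X.presheaf.stalk (O.ι x)) _ q₀)
      (IsLocalRing.maximalIdeal (X.presheaf.stalk (O.ι x)))
    have hle : (⊤ : Submodule (X.presheaf.stalk (O.ι x)) ((tmod J P).presheaf.stalk (O.ι x))) ≤
        M₀.comap (stalkLin π (O.ι x)) := by
      rw [← hspan (O.ι x) hxO, Submodule.span_le]
      rintro _ ⟨τ, rfl⟩
      show stalkLin π (O.ι x) _ ∈ M₀
      rw [stalkLin_germ]
      obtain ⟨c, hc⟩ := hq₀.2 (P.presheaf.germ O (O.ι x) hxO (π.app O τ))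
      refine ⟨c, fun hu => hne τ ?_, hc⟩
      rw [← hc, bijective_smul_iff hq₀]
      exact hu
    obtain ⟨W, hxW, q, hq⟩ := TopCat.Presheaf.exists_germ_eq P.presheaf q₀
    obtain ⟨a, ha⟩ := (OmegaAffLib.mem_range_idealSect I V 1).1 h1
    let W' := V.1 ⊓ W
    have := hle (Submodule.mem_top (x := (tmod J P).presheaf.germ W' (O.ι x) ⟨hxV, hxW⟩
      (pairS J P (J.presheaf.map (homOfLE inf_le_left).op a) (P.presheaf.map (homOfLE inf_le_right).op q))))
    rw [Submodule.mem_comap, hπ, TopCat.Presheaf.germ_res_apply, hq,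
      show OmegaSh.idealSect I W' (J.presheaf.map (homOfLE (inf_le_left : W' ≤ V.1)).op a) = 1 by
        rw [show OmegaSh.idealSect I W' (J.presheaf.map (homOfLE (inf_le_left : W' ≤ V.1)).op a) =
          X.presheaf.map (homOfLE (inf_le_left : W' ≤ V.1)).op (OmegaSh.idealSect I V.1 a) from
          ConcreteCategory.congr_hom ((ClSub.idealModι I).mapPresheaf.naturality _) a, ha, map_one],
      map_one, one_smul] at this
    obtain ⟨r, hr, hre⟩ := this
    have : r = 1 := hq₀.1 (hre.trans (one_smul _ q₀).symm)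
    exact hr (this ▸ isUnit_one)
  let t' : Coh.structureModule (O : Scheme.{u}) ⟶ P.restrict O.ι :=
    DCohLib.secHom _ (P.presheaf.map (homOfLE O.ι_image_top.le).op (π.app O σ))
  have hgerm : ∀ y (hy : y ∈ O), P.presheaf.germ (O.ι ''ᵁ ⊤) y (O.ι_image_top.ge hy) (sec t') =
      P.presheaf.germ O y hy (π.app O σ) := fun y hy => by
    rw [sec_secHom]
    exact TopCat.Presheaf.germ_res_apply P.presheaf (homOfLE O.ι_image_top.le) y (O.ι_image_top.ge hy) _
  refine ⟨CohB1.genLocus _ t', ⟨m, t' ≫ (restrictPow O.ι L (m + 1)).hom, (genLocus_comp_iso t' _).symm⟩, ?_, fun w hw => ?_⟩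
  · have h2 : O.ι x ∈ O.ι ''ᵁ CohB1.genLocus _ t' := (AmpleEmb.mem_image_genLocus_iff hP t' hxO).2 (by
      erw [hgerm _ hxO]; exact hσ)
    obtain ⟨w, hw, e⟩ := h2
    exact O.ι.isOpenEmbedding.injective e ▸ hw
  · have hb := (AmpleEmb.mem_image_genLocus_iff hP t' (show O.ι w ∈ O from w.2)).1 ⟨w, hw, rfl⟩
    rw [hgerm (O.ι w) w.2] at hb
    by_contra hwN
    have hwU : O.ι w ∉ U := fun ⟨w', hw', e⟩ => hwN (O.ι.isOpenEmbedding.injective e ▸ hw')
    have h2 := himg (O.ι w) hwU ((tmod J P).presheaf.germ O (O.ι w) w.2 σ)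
    rw [stalkLin_germ] at h2
    obtain ⟨g, hg⟩ := exists_stalk_gen hP (O.ι w)
    have h3 : (IsLocalRing.maximalIdeal (X.presheaf.stalk (O.ι w))) •
        (⊤ : Submodule (X.presheaf.stalk (O.ι w)) (P.presheaf.stalk (O.ι w))) ≤
        Submodule.map (LinearMap.toSpanSingleton _ _ g) (IsLocalRing.maximalIdeal (X.presheaf.stalk (O.ι w))) := by
      refine Submodule.smul_le.2 fun r hr v _ => ?_
      obtain ⟨c, rfl⟩ := hg.2 v
      exact ⟨r * c, Ideal.mul_mem_right _ _ hr, mul_smul r c g⟩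
    obtain ⟨r, hr, hre⟩ := h3 h2
    rw [← hre] at hb
    exact hr ((bijective_smul_iff hg r).1 hb)

end Groth.Agent.AmpleCritLib
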