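import Groth.Agent.AmpleCritLib.Ideals
import Groth.Agent.ProjBundleLib.RelProjQuot

/-! Relative ampleness and epimorphic counits. -/

set_option autoImplicit false
set_option linter.style.haveILetI false
set_option backward.isDefEq.respectTransparency false

universe u

open CategoryTheory CategoryTheory.Limits AlgebraicGeometry TopologicalSpace Opposite
open Groth.Agent.ParaFLib Groth.Agent.PullbackMod Groth.Agent.DCohLib Groth.Agent.AmpleLib

noncomputable section

namespace Groth.Agent.AmpleCritLib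

variable {X Y : Scheme.{u}}

theorem isFT_idealMod (I : X.IdealSheafData) (hI : BlowUp.IsFiniteTypeIdeal I) : CohB1.IsFT (ClSub.idealMod I) := by
  classical
  haveI := OmegaAffLib.isQCoh_idealMod I
  refine QCohLib.isFiniteType_of_finite _ (fun W : X.affineOpens => W.1) (fun W => W.2)
    (QCohLib.iSup_affineOpens_eq_top X) fun W => ?_
  obtain ⟨S, hS⟩ := hI W
  have hS' : ∀ s : S, ∃ m, OmegaSh.idealSect I W.1 m = s.1 := fun s =>
    (OmegaAffLib.mem_range_idealSect I W s.1).1 (hS.le (Submodule.subset_span s.2))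
  choose m hm using hS'
  let l : Γ(ClSub.idealMod I, W.1) →ₗ[Γ(X, W.1)] Γ(X, W.1) :=
    { toFun := OmegaSh.idealSect I W.1
      map_add' := map_add _
      map_smul' := fun r a => OmegaAffLib.idealSect_smul I W.1 r a }
  refine ⟨⟨Finset.univ.image m, eq_top_iff.2 fun v _ => ?_⟩⟩
  have hv : l v ∈ Submodule.map l (Submodule.span Γ(X, W.1) (Set.range m)) := by
    rw [Submodule.map_span, ← Set.range_comp]
    have : Set.range (l ∘ m) = (S : Set Γ(X, W.1)) := by
      ext a
      exact ⟨fun ⟨s, hs⟩ => hs ▸ (show l (m s) ∈ (S : Set Γ(X, W.1)) by rw [show l (m s) = s.1 from hm s]; exact s.2),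
        fun ha => ⟨⟨a, ha⟩, hm _⟩⟩
    rw [this]
    exact hS.ge ((OmegaAffLib.mem_range_idealSect I W _).2 ⟨v, rfl⟩)
  obtain ⟨v', hv', he⟩ := hv
  rw [Finset.coe_image, Finset.coe_univ, Set.image_univ, ← OmegaAffLib.idealSect_injective I W.1 he]
  exact hv'

/-- Epimorphic counits of twisted ideals of finite type give relative ampleness. -/
theorem isRelAmple_of_ideals [CompactSpace X] [QuasiSeparatedSpace X] (f : X ⟶ Y) [QuasiCompact f] [QuasiSeparated f]
    {L : X.Modules} (hL : PicF.IsInvertible L)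
    (h : ∀ I : X.IdealSheafData, BlowUp.IsFiniteTypeIdeal I → ∃ n : ℕ, 0 < n ∧
      Epi ((Scheme.Modules.pullbackPushforwardAdjunction f).counit.app
        (CohB1.tensorMod (ClSub.idealMod I) (CohB1.tensorPow L n)))) : RelAmple.IsRelAmple f L := by
  refine ⟨inferInstance, fun V => ampleOn_of_ideals hL (f.isCompact_preimage V.2.isCompact) fun I hI => ?_⟩
  obtain ⟨n, hn, he⟩ := h I hI
  refine ⟨n, hn, fun x hx => eq_top_iff.2 ?_⟩
  let M := tmod (ClSub.idealMod I) (CohB1.tensorPow L n)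
  haveI := OmegaAffLib.isQCoh_idealMod I
  haveI := InvExt.isQCoh_of_isInvertible (isInvertible_tensorPow hL n)
  haveI : Coh.IsQCoh M := BCLib.isQCoh_tmod _ _
  rw [← AmpleLib.span_germ_preimage_of_epi_counit f M he x, Submodule.span_le]
  rintro _ ⟨W, hxW, σ, rfl⟩
  obtain ⟨W', hW'W, hW'V, r, σ', hfx, heq⟩ := ProjBundleLib.exists_mult
    (E := (Scheme.Modules.pushforward f).obj M) (QCohLib.isQCoh_pushforward M f) V.2 (y := f x) hx hxW σ
  have e1 : M.presheaf.map (homOfLE (f.preimage_mono hW'W)).op σ =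
      f.app W' r • M.presheaf.map (homOfLE (f.preimage_mono hW'V)).op σ' := heq
  have e2 := congrArg (M.presheaf.germ (f ⁻¹ᵁ W') x hfx) e1
  rw [germ_smul' x, TopCat.Presheaf.germ_res_apply, TopCat.Presheaf.germ_res_apply] at e2
  show M.presheaf.germ (f ⁻¹ᵁ W) x hxW σ ∈ _
  rw [e2]
  exact Submodule.smul_mem _ _ (Submodule.subset_span ⟨σ', rfl⟩)

/-- Relative ampleness makes high twists generated relative to the base. -/
theorem eventually_epi_counit_of_isRelAmple [CompactSpace X] (f : X ⟶ Y) {L : X.Modules}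
    (hA : RelAmple.IsRelAmple f L) {F : X.Modules} (hF : Coh.IsQCoh F) (hFt : CohB1.IsFT F) :
    ∃ N, ∀ n, N ≤ n →
      Epi ((Scheme.Modules.pullbackPushforwardAdjunction f).counit.app (CohB1.tensorMod F (CohB1.tensorPow L n))) := by
  classical
  have loc : ∀ x : X, ∃ (V : Y.affineOpens) (N : ℕ), f x ∈ V.1 ∧ ∀ n, N ≤ n →
      Curv2.IsGloballyGenerated ((CohB1.tensorMod F (CohB1.tensorPow L n)).restrict (f ⁻¹ᵁ V.1).ι) := fun x => by
    obtain ⟨_, ⟨V, hV, rfl⟩, hxV, -⟩ :=
      Y.isBasis_affineOpens.exists_subset_of_mem_open (Set.mem_univ (f x)) isOpen_univ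
    let j := (f ⁻¹ᵁ V).ι
    obtain ⟨N, hN⟩ := AmpleEmb.eventually_isGloballyGenerated (hA.2 ⟨V, hV⟩) (ProjBundleLib.isCoh_restrict_open hF hFt _)
    exact ⟨⟨V, hV⟩, N, hxV, fun n hn => isGloballyGenerated_of_iso
      (restrictTensor j _ _ ≪≫ tIso (Iso.refl _) (restrictPow j L n)).symm (hN n hn)⟩
  choose V N hxV hN using loc
  obtain ⟨t, ht⟩ := isCompact_univ.elim_finite_subcover (fun x : X => ((f ⁻¹ᵁ (V x).1 : X.Opens) : Set X))
    (fun x => (f ⁻¹ᵁ (V x).1).2) fun x _ => Set.mem_iUnion.2 ⟨x, hxV x⟩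
  refine ⟨t.sup N, fun n hn => ProjBundleLib.epi_counit_of_span f _ fun y => ?_⟩
  obtain ⟨x, hxt, hy⟩ := Set.mem_iUnion₂.1 (ht (Set.mem_univ y))
  exact ⟨(V x).1, hy, ProjBundleLib.span_germ_of_restrict (hN x n ((Finset.le_sup hxt).trans hn)) hy⟩

end Groth.Agent.AmpleCritLib
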